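import Cfsg.Agent.H58.Rec.Outer_m3
import Cfsg.Agent.H915.GNDefs_m3
import Cfsg.Agent.H537.CopDefs
import Cfsg.Agent.H898.J3Cent
import Cfsg.Agent.H677.J3Field
import Cfsg.Agent.S2067
import Cfsg.Agent.Prune
set_option linter.all false

-- part: H306/Rec/Tools
section
set_option linter.all false
open scoped Cfsg.Agent.FastGrp

/-!
# Recognition of sporadic groups by spectrum: the frame (helper306)

* `isolated_of_sc` : a self-centralizing prime is isolated;
* `Base G M` ... `main` : `G ≃* M` from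
  (S) every simple `S` with element orders in `ω(M)` and order divisible by the good primes of `M` is `≃* M`;
  (K) each prime divisor `p` of `|M|` is good or killed by a Frobenius subgroup of `M`;
  (O) `|Out M| = 1`, or `|Out M| = 2` and each extension of degree 2 has a new element order.
-/

set_option autoImplicit false
set_option linter.unusedSectionVars false

namespace Cfsg.Agent.H306.Rec

open Subgroup Cfsg Cfsg.Agent.H58.Rec Cfsg.Agent.H455.Isolated Cfsg.Agent.OrdDiv Cfsg.Agent.H436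

universe u v w

theorem isolated_of_sc {X : Type*} [Group X] [Finite X] {p : ℕ} (hp : p.Prime) (h : H537.Cop.SC p X) :
    Isolated X p := by
  intro s hs hsp g hg
  have h1 : orderOf (g ^ s) = p := by
    rw [orderOf_pow' g hs.ne_zero, hg, Nat.gcd_eq_right (dvd_mul_left s p), Nat.mul_div_cancel _ hs.pos]
  have h2 := h _ h1
  have h3 : g ∈ centralizer ({g ^ s} : Set X) := by
    rw [mem_centralizer_singleton_iff]
    exact ((Commute.refl g).pow_right s).eq
  have h4 : orderOf g ∣ p := by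
    rw [← h2]
    have := orderOf_dvd_natCard (⟨g, h3⟩ : centralizer ({g ^ s} : Set X))
    rwa [Subgroup.orderOf_mk] at this
  rw [hg] at h4
  have h5 := Nat.le_of_dvd hp.pos h4
  have := hs.two_le
  have := hp.pos
  nlinarith

/-- no multiple of an isolated prime is an element order -/
theorem not_hasOrd_of_isolated {X : Type*} [Group X] [Finite X] {p : ℕ} (h : Isolated X p) {n s : ℕ} (hs : s.Prime)
    (hsp : s ≠ p) (hn : p * s ∣ n) : ¬ HasOrd X n := by
  intro h1
  obtain ⟨g, hg⟩ := h1.of_dvd hn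
  exact h s hs hsp g hg

/-- `S ⊆ M` as far as the spectrum sees it -/
structure Sub (S : Type u) (M : Type w) [Group S] [Group M] : Prop where
  ord : ∀ n, HasOrd S n → HasOrd M n
  dvd : ∀ r, Good M r → r ∣ Nat.card S

theorem Sub.prime {S : Type u} {M : Type w} [Group S] [Group M] [Finite S] [Finite M] (h : Sub S M) {r : ℕ}
    (hr : r.Prime) (hd : r ∣ Nat.card S) : r ∣ Nat.card M :=
  (hasOrd_prime hr).1 (h.ord r ((hasOrd_prime hr).2 hd))

/-- good primes of `M` are isolated in `S` -/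
theorem Sub.isolated {S : Type u} {M : Type w} [Group S] [Group M] (h : Sub S M) {r : ℕ} (hr : Isolated M r) :
    Isolated S r := by
  rw [isolated_iff] at hr ⊢
  exact fun s hs hsr h1 => hr s hs hsr (h.ord _ h1)

/-- **The frame.** -/
theorem main {G : Type u} [Group G] [Finite G] {M : Type w} [Group M] [Finite M] (h : Same G M)
    {r₀ r₁ : ℕ} (h0 : Good M r₀) (h1 : Isolated M r₁) (hp1 : r₁.Prime) (h12 : r₁ ≠ 2) (h01 : r₀ ≠ r₁)
    (h1d : r₁ ∣ Nat.card M) (h2 : 2 ∣ Nat.card M)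
    (hS : ∀ (S : Type u) [Group S] [Finite S] [IsSimpleGroup S], ¬ IsMulCommutative S → Sub S M → Nonempty (S ≃* M))
    (hK : ∀ p : ℕ, p.Prime → p ∣ Nat.card M → Good M p ∨
      ∃ q n, q.Prime ∧ q ≠ p ∧ HasFrob M q n ∧ ¬ HasOrd M (n * p))
    (hO : Nat.card (Cfsg.Out M) = 1 ∨ (Nat.card (Cfsg.Out M) = 2 ∧
      ∀ (X : Type u) [Group X] [Finite X] (S : Subgroup X) [S.Normal], S.index = 2 → centralizer (S : Set X) = ⊥ →
        Nonempty (S ≃* M) → ∃ n, HasOrd X n ∧ ¬ HasOrd M n)) :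
    Nonempty (G ≃* M) := by
  have hG : ¬ Group.IsSolvable G := by
    have h3 := h0.prime
    refine not_solvable_of_same h h0.prime hp1 Nat.prime_two h01 h0.ne2 h12 h0.dvd h1d h2 ?_ ?_ ?_
    · exact (isolated_iff.1 h0.iso) r₁ hp1 (Ne.symm h01)
    · exact (isolated_iff.1 h0.iso) 2 Nat.prime_two (Ne.symm h0.ne2)
    · exact (isolated_iff.1 h1) 2 Nat.prime_two (Ne.symm h12)
  obtain ⟨X, _, _, π, S, hR⟩ := exists_red hG ((dvd_of_same h Nat.prime_two).2 h2) (h0.of_same h)
  have hR0 := hR r₀ (h0.of_same h)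
  have hSs : IsSimpleGroup S := hR0.simple
  have hsub : Sub S M := ⟨fun n hn => (h n).1 (hR0.hasOrd' hn), fun r hr => (hR r (hr.of_same h)).dvd⟩
  obtain ⟨e⟩ := hS S hR0.nonab hsub
  have hSn := hR0.normal
  refine finish hR0 ?_ e ?_
  · intro p hp hpG
    rcases hK p hp ((dvd_of_same h hp).1 hpG) with h3 | ⟨q, n, hq, hqp, hF, hno⟩
    · exact (hR p (h3.of_same h)).not_dvd
    · have hFS : HasFrob S q n := hF.of_injective e.symm.toMonoidHom e.symm.injective
      exact hR0.kill' hp hq hqp hFS fun h4 => hno ((h _).1 h4)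
  · rcases hO with h3 | ⟨h3, h4⟩
    · exact Or.inl h3
    · refine Or.inr ⟨h3, ?_⟩
      intro _ hidx _ hsp
      obtain ⟨n, hn, hn'⟩ := h4 X S hidx hR0.cent ⟨e⟩
      exact hn' ((h n).1 (hsp n hn))

/-- the name of `S` -/
theorem name_mem {S : Type u} [Group S] [Finite S] [IsSimpleGroup S] (hN : NameHyp.{u}) (hS : ¬ IsMulCommutative S)
    {M : Type w} [Group M] [Finite M] (h : Sub S M) {ps rs : List ℕ} {B N m : ℕ} (hm : Nat.card M = m) (hB : 7 ≤ B)
    (hps : ∀ p ∈ ps, p ≤ B) (hNp : N.Prime) (hNps : N ∉ ps) (hf : ∀ r, r.Prime → r ∣ m → r ∈ ps)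
    (hrs : ∀ r ∈ rs, r ∣ Nat.card S) : ∃ g, IsNamed g S ∧ g ∈ lst ps rs B N := by
  obtain ⟨g, hg⟩ := hN S hS
  exact ⟨g, hg, mem_lst hg hB hps hNp hNps (fun r hr hd => hf r hr (hm ▸ h.prime hr hd)) hrs⟩

/-- prime divisors from a factorization -/
theorem mem_of_dvd_pow {ps : List ℕ} (hps : ∀ p ∈ ps, p.Prime) {m k : ℕ} (h : m ∣ ps.prod ^ k) {r : ℕ} (hr : r.Prime)
    (hd : r ∣ m) : r ∈ ps := by
  have h1 : r ∣ ps.prod := hr.dvd_of_dvd_pow (hd.trans h)
  obtain ⟨p, hp, hrp⟩ := (Prime.dvd_prod_iff hr.prime).1 h1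
  rwa [(Nat.prime_dvd_prime_iff_eq hr (hps p hp)).1 hrp]

end Cfsg.Agent.H306.Rec
end

-- part: H456/Rec/J3
section
set_option linter.all false
open scoped Cfsg.Agent.FastGrp

/-!
# S3484, row `J3` (helper456 for helper58)
-/

set_option autoImplicit false

namespace Cfsg.Agent.H456.Rec.J3

open Subgroup Cfsg
open Cfsg.Agent.H455.Isolated
open Cfsg.Agent.H58.Rec Cfsg.Agent.OrdDiv Cfsg.Agent.H436

universe u v w

theorem perm_cases : ∀ σ : Equiv.Perm (Fin 5), Equiv.Perm.sign σ = 1 → σ ^ 2 = 1 ∨ σ ^ 3 = 1 ∨ σ ^ 5 = 1 := by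
  decide +kernel

section Spec

variable {K : Type v} [Group K]

/-- the even orders divide 8, 12 or 20 -/
theorem even_ord (h : Spor.IsoJ3 K) {m : ℕ} (hm : 0 < m) (g : K) (hg : orderOf g = 2 * m) :
    2 * m ∣ 8 ∨ 2 * m ∣ 12 ∨ 2 * m ∣ 20 := by
  obtain ⟨-, hcK, hM⟩ := Cfsg.Agent.H898.J3Cent.base h
  have hfin : Finite K := Nat.finite_of_card_ne_zero (by rw [hcK]; norm_num)
  obtain ⟨t, htd⟩ : ∃ t, t = g ^ m := ⟨_, rfl⟩
  have ht : orderOf t = 2 := by
    rw [htd, orderOf_pow' g hm.ne', hg, Nat.gcd_eq_right (Dvd.intro_left 2 rfl), Nat.mul_div_cancel _ hm]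
  obtain ⟨-, -, Q, v, ρ, M⟩ := hM _ ht
  have hgc : g ∈ centralizer ({t} : Set K) := by
    rw [mem_centralizer_singleton_iff, htd, ← pow_succ, ← pow_succ']
  obtain ⟨c, hcd⟩ : ∃ c : centralizer ({t} : Set K), (c : K) = g := ⟨⟨g, hgc⟩, rfl⟩
  have h2 : ∀ n : ℕ, (ρ (c ^ n)).σ = (ρ c).σ ^ n := by
    intro n
    induction n with
    | zero => rw [pow_zero, pow_zero, map_one]; rfl
    | succ n ih =>
      have e1 : ρ (c ^ (n + 1)) = ρ (c ^ n) * ρ c := by rw [← map_mul, ← pow_succ]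
      rw [e1]
      show (ρ (c ^ n)).σ * (ρ c).σ = _
      rw [ih, ← pow_succ]
  have key : ∀ n : ℕ, (ρ c).σ ^ n = 1 → orderOf g ∣ 4 * n := by
    intro n hn
    -- squares of elements of `Q` are in `⟨z⟩`
    have h5 : (ρ (c ^ n)).σ = 1 := by rw [h2, hn]
    have h6 : ∀ s : Cfsg.Agent.J2Type.Model.SP, s.σ = 1 → s * s = 1 := by
      intro s hs
      ext i
      · show ((s.σ * s.σ) i : Fin 5).val = i.val
        rw [hs]; rfl
      · show s.s i + s.s (s.σ i) = 0
        rw [hs]
        show s.s i + s.s i = 0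
        exact CharTwo.add_self_eq_zero _
    have h4 : ρ (c ^ n * c ^ n) = 1 := by
      rw [map_mul]
      exact h6 _ h5
    have h7 : (c ^ n * c ^ n) * (c ^ n * c ^ n) = 1 := by
      rcases (M.ker _).1 h4 with h8 | h8
      · rw [h8, one_mul]
      · rw [h8, M.z_sq]
    have h8 : c ^ (4 * n) = 1 := by
      rw [← h7, ← pow_add, ← pow_add]
      congr 1
      omega
    have h9 : g ^ (4 * n) = 1 := by
      rw [← hcd]
      exact congrArg Subtype.val h8
    exact orderOf_dvd_of_pow_eq_one h9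
  rw [hg] at key
  rcases perm_cases _ ((M.range (ρ c)).1 ⟨c, rfl⟩).1 with h3 | h3 | h3
  · exact Or.inl (key 2 h3)
  · exact Or.inr (Or.inl (key 3 h3))
  · exact Or.inr (Or.inr (key 5 h3))

theorem not_even (h : Spor.IsoJ3 K) {m : ℕ} (hm : 0 < m) (hn : ¬ (2 * m ∣ 8 ∨ 2 * m ∣ 12 ∨ 2 * m ∣ 20)) :
    ¬ HasOrd K (2 * m) := fun ⟨g, hg⟩ => hn (even_ord h hm g hg)

theorem sc (h : Spor.IsoJ3 K) {p : ℕ} (hp : p = 17 ∨ p = 19) : H537.Cop.SC p K := by
  intro x hx
  rcases hp with rfl | rfl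
  · exact (Cfsg.Agent.H898.J3Cent.seventeen h hx).1
  · exact Cfsg.Agent.H898.J3Cent.card_nineteen h hx

end Spec

/-- **Row `J3`.** -/
theorem rec_j3 (hN : NameHyp.{u}) {G : Type u} [Group G] [Finite G] {M : Type v} [Group M] [Finite M]
    (hM : Spor.IsoJ3 M) (h : Same G M) : Nonempty (G ≃* M) := by
  obtain ⟨hsM, hcM, -⟩ := Cfsg.Agent.H898.J3Cent.base hM
  have i17 : Isolated M 17 := H306.Rec.isolated_of_sc (by norm_num) (sc hM (Or.inl rfl))
  have i19 : Isolated M 19 := H306.Rec.isolated_of_sc (by norm_num) (sc hM (Or.inr rfl))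
  have d17 : 17 ∣ Nat.card M := by rw [hcM]; norm_num
  have d19 : 19 ∣ Nat.card M := by rw [hcM]; norm_num
  have d2 : 2 ∣ Nat.card M := by rw [hcM]; norm_num
  have g17 : Good M 17 := good_of_two (by norm_num) (by norm_num) d17 i17 (s := 19) (by norm_num) (by norm_num) d19 i19
    (by norm_num)
  have g19 : Good M 19 := good_of_two (by norm_num) (by norm_num) d19 i19 (s := 17) (by norm_num) (by norm_num) d17 i17
    (by norm_num)
  have f17 : HasFrob M 17 8 := hasFrob_of_isolated (N := 50232960) (by norm_num) hcM i17 (by norm_num) (by norm_num)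
    (by norm_num) (by decide +kernel)
  have f19 : HasFrob M 19 9 := hasFrob_of_isolated (N := 50232960) (by norm_num) hcM i19 (by norm_num) (by norm_num)
    (by norm_num) (by decide +kernel)
  have n18 : ¬ HasOrd M 18 := not_even hM (m := 9) (by norm_num) (by decide)
  refine H306.Rec.main h g17 i19 (by norm_num) (by norm_num) (by norm_num) d19 d2 ?_ ?_ ?_
  · intro S _ _ _ hna hsub
    obtain ⟨g, hg, hgl⟩ := H306.Rec.name_mem hN hna hsub (ps := [2, 3, 5, 17, 19]) (rs := [17, 19]) (B := 19) (N := 7)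
      hcM (by norm_num) (by decide) (by norm_num) (by decide)
      (fun r hr hd => by
        rcases Cfsg.Agent.H898.J3Cent.prime_dvd_card hr hd with rfl | rfl | rfl | rfl | rfl <;> decide)
      (by
        intro r hr
        simp only [List.mem_cons, List.not_mem_nil, or_false] at hr
        rcases hr with rfl | rfl
        · exact hsub.dvd 17 g17
        · exact hsub.dvd 19 g19)
    have hlst : lst [2, 3, 5, 17, 19] [17, 19] 19 7 = [.j3] := by rewrite [Cfsg.Agent.H58.Rec.Q11.lst_fast]; decide +kernel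
    rw [hlst, List.mem_singleton] at hgl
    subst hgl
    exact Cfsg.Agent.H677.J3Field.isoJ3_unique hg.real hM
  · intro p hp hpM
    rw [hcM] at hpM
    rcases Cfsg.Agent.H898.J3Cent.prime_dvd_card hp hpM with rfl | rfl | rfl | rfl | rfl
    · exact Or.inr ⟨19, 9, by norm_num, by norm_num, f19, n18⟩
    · exact Or.inr ⟨17, 8, by norm_num, by norm_num, f17, not_even hM (m := 12) (by norm_num) (by decide)⟩
    · exact Or.inr ⟨17, 8, by norm_num, by norm_num, f17, not_even hM (m := 20) (by norm_num) (by decide)⟩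
    · exact Or.inl g17
    · exact Or.inl g19
  · refine Or.inr ⟨?_, ?_⟩
    · obtain ⟨F, _, _, ω, hF, hω, ⟨e⟩⟩ := hM
      rw [Cfsg.Agent.H548.Crit.card_out_congr e]
      exact S2067.result hF ω hω
    · intro X _ _ S _ hidx _ ⟨e⟩
      have hcX : Nat.card X = 100465920 := by
        rw [← card_mul_index S, hidx, Nat.card_congr e.toEquiv, hcM]
      by_cases hi : Isolated X 19
      · have f : HasFrob X 19 18 := hasFrob_of_isolated (N := 100465920) (by norm_num) hcX hi (by norm_num) (by norm_num)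
          (by norm_num) (by decide +kernel)
        obtain ⟨T, c, -, -, -, hc, -⟩ := f
        exact ⟨18, ⟨c, hc⟩, n18⟩
      · rw [isolated_iff] at hi
        push Not at hi
        obtain ⟨s, hs, hs1, hs2⟩ := hi
        exact ⟨19 * s, hs2, isolated_iff.1 i19 s hs hs1⟩

end Cfsg.Agent.H456.Rec.J3
end
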